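import Cfsg.Agent.Lib.Fischer.X24.T

set_option autoImplicit false
set_option maxRecDepth 100000

namespace Cfsg.Agent.Fi.X24

open Cfsg.Agent.PC

theorem r28000 : Nat.beq (rng f (nat_lit 28000) (nat_lit 2000)) (nat_lit 0) = true := by decide +kernel
theorem r30000 : Nat.beq (rng f (nat_lit 30000) (nat_lit 2000)) (nat_lit 0) = true := by decide +kernel
theorem r32000 : Nat.beq (rng f (nat_lit 32000) (nat_lit 2000)) (nat_lit 0) = true := by decide +kernel
theorem r34000 : Nat.beq (rng f (nat_lit 34000) (nat_lit 2000)) (nat_lit 0) = true := by decide +kernel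
theorem r36000 : Nat.beq (rng f (nat_lit 36000) (nat_lit 2000)) (nat_lit 0) = true := by decide +kernel
theorem r38000 : Nat.beq (rng f (nat_lit 38000) (nat_lit 2000)) (nat_lit 0) = true := by decide +kernel
theorem r40000 : Nat.beq (rng f (nat_lit 40000) (nat_lit 2000)) (nat_lit 0) = true := by decide +kernel
theorem r42000 : Nat.beq (rng f (nat_lit 42000) (nat_lit 2000)) (nat_lit 0) = true := by decide +kernel
theorem r44000 : Nat.beq (rng f (nat_lit 44000) (nat_lit 2000)) (nat_lit 0) = true := by decide +kernel
theorem r46000 : Nat.beq (rng f (nat_lit 46000) (nat_lit 2000)) (nat_lit 0) = true := by decide +kernel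
theorem r48000 : Nat.beq (rng f (nat_lit 48000) (nat_lit 2000)) (nat_lit 0) = true := by decide +kernel
theorem r50000 : Nat.beq (rng f (nat_lit 50000) (nat_lit 2000)) (nat_lit 0) = true := by decide +kernel
theorem r52000 : Nat.beq (rng f (nat_lit 52000) (nat_lit 2000)) (nat_lit 0) = true := by decide +kernel
theorem r54000 : Nat.beq (rng f (nat_lit 54000) (nat_lit 2000)) (nat_lit 0) = true := by decide +kernel

end Cfsg.Agent.Fi.X24
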