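import Cfsg.Agent.Lib.Fischer.X24.T

set_option autoImplicit false
set_option maxRecDepth 100000

namespace Cfsg.Agent.Fi.X24

open Cfsg.Agent.PC

theorem r280000 : Nat.beq (rng f (nat_lit 280000) (nat_lit 2000)) (nat_lit 0) = true := by decide +kernel
theorem r282000 : Nat.beq (rng f (nat_lit 282000) (nat_lit 2000)) (nat_lit 0) = true := by decide +kernel
theorem r284000 : Nat.beq (rng f (nat_lit 284000) (nat_lit 2000)) (nat_lit 0) = true := by decide +kernel
theorem r286000 : Nat.beq (rng f (nat_lit 286000) (nat_lit 2000)) (nat_lit 0) = true := by decide +kernel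
theorem r288000 : Nat.beq (rng f (nat_lit 288000) (nat_lit 2000)) (nat_lit 0) = true := by decide +kernel
theorem r290000 : Nat.beq (rng f (nat_lit 290000) (nat_lit 2000)) (nat_lit 0) = true := by decide +kernel
theorem r292000 : Nat.beq (rng f (nat_lit 292000) (nat_lit 2000)) (nat_lit 0) = true := by decide +kernel
theorem r294000 : Nat.beq (rng f (nat_lit 294000) (nat_lit 2000)) (nat_lit 0) = true := by decide +kernel
theorem r296000 : Nat.beq (rng f (nat_lit 296000) (nat_lit 2000)) (nat_lit 0) = true := by decide +kernel
theorem r298000 : Nat.beq (rng f (nat_lit 298000) (nat_lit 2000)) (nat_lit 0) = true := by decide +kernel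
theorem r300000 : Nat.beq (rng f (nat_lit 300000) (nat_lit 2000)) (nat_lit 0) = true := by decide +kernel
theorem r302000 : Nat.beq (rng f (nat_lit 302000) (nat_lit 2000)) (nat_lit 0) = true := by decide +kernel
theorem r304000 : Nat.beq (rng f (nat_lit 304000) (nat_lit 2000)) (nat_lit 0) = true := by decide +kernel
theorem r306000 : Nat.beq (rng f (nat_lit 306000) (nat_lit 936)) (nat_lit 0) = true := by decide +kernel

end Cfsg.Agent.Fi.X24
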