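import Cfsg.Agent.Lib.Fischer.X24.T

set_option autoImplicit false
set_option maxRecDepth 100000

namespace Cfsg.Agent.Fi.X24

open Cfsg.Agent.PC

theorem r56000 : Nat.beq (rng f (nat_lit 56000) (nat_lit 2000)) (nat_lit 0) = true := by decide +kernel
theorem r58000 : Nat.beq (rng f (nat_lit 58000) (nat_lit 2000)) (nat_lit 0) = true := by decide +kernel
theorem r60000 : Nat.beq (rng f (nat_lit 60000) (nat_lit 2000)) (nat_lit 0) = true := by decide +kernel
theorem r62000 : Nat.beq (rng f (nat_lit 62000) (nat_lit 2000)) (nat_lit 0) = true := by decide +kernel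
theorem r64000 : Nat.beq (rng f (nat_lit 64000) (nat_lit 2000)) (nat_lit 0) = true := by decide +kernel
theorem r66000 : Nat.beq (rng f (nat_lit 66000) (nat_lit 2000)) (nat_lit 0) = true := by decide +kernel
theorem r68000 : Nat.beq (rng f (nat_lit 68000) (nat_lit 2000)) (nat_lit 0) = true := by decide +kernel
theorem r70000 : Nat.beq (rng f (nat_lit 70000) (nat_lit 2000)) (nat_lit 0) = true := by decide +kernel
theorem r72000 : Nat.beq (rng f (nat_lit 72000) (nat_lit 2000)) (nat_lit 0) = true := by decide +kernel
theorem r74000 : Nat.beq (rng f (nat_lit 74000) (nat_lit 2000)) (nat_lit 0) = true := by decide +kernel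
theorem r76000 : Nat.beq (rng f (nat_lit 76000) (nat_lit 2000)) (nat_lit 0) = true := by decide +kernel
theorem r78000 : Nat.beq (rng f (nat_lit 78000) (nat_lit 2000)) (nat_lit 0) = true := by decide +kernel
theorem r80000 : Nat.beq (rng f (nat_lit 80000) (nat_lit 2000)) (nat_lit 0) = true := by decide +kernel
theorem r82000 : Nat.beq (rng f (nat_lit 82000) (nat_lit 2000)) (nat_lit 0) = true := by decide +kernel

end Cfsg.Agent.Fi.X24
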