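import Cfsg.Agent.Lib.Fischer.X24.T

set_option autoImplicit false
set_option maxRecDepth 100000

namespace Cfsg.Agent.Fi.X24

open Cfsg.Agent.PC

theorem r84000 : Nat.beq (rng f (nat_lit 84000) (nat_lit 2000)) (nat_lit 0) = true := by decide +kernel
theorem r86000 : Nat.beq (rng f (nat_lit 86000) (nat_lit 2000)) (nat_lit 0) = true := by decide +kernel
theorem r88000 : Nat.beq (rng f (nat_lit 88000) (nat_lit 2000)) (nat_lit 0) = true := by decide +kernel
theorem r90000 : Nat.beq (rng f (nat_lit 90000) (nat_lit 2000)) (nat_lit 0) = true := by decide +kernel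
theorem r92000 : Nat.beq (rng f (nat_lit 92000) (nat_lit 2000)) (nat_lit 0) = true := by decide +kernel
theorem r94000 : Nat.beq (rng f (nat_lit 94000) (nat_lit 2000)) (nat_lit 0) = true := by decide +kernel
theorem r96000 : Nat.beq (rng f (nat_lit 96000) (nat_lit 2000)) (nat_lit 0) = true := by decide +kernel
theorem r98000 : Nat.beq (rng f (nat_lit 98000) (nat_lit 2000)) (nat_lit 0) = true := by decide +kernel
theorem r100000 : Nat.beq (rng f (nat_lit 100000) (nat_lit 2000)) (nat_lit 0) = true := by decide +kernel
theorem r102000 : Nat.beq (rng f (nat_lit 102000) (nat_lit 2000)) (nat_lit 0) = true := by decide +kernel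
theorem r104000 : Nat.beq (rng f (nat_lit 104000) (nat_lit 2000)) (nat_lit 0) = true := by decide +kernel
theorem r106000 : Nat.beq (rng f (nat_lit 106000) (nat_lit 2000)) (nat_lit 0) = true := by decide +kernel
theorem r108000 : Nat.beq (rng f (nat_lit 108000) (nat_lit 2000)) (nat_lit 0) = true := by decide +kernel
theorem r110000 : Nat.beq (rng f (nat_lit 110000) (nat_lit 2000)) (nat_lit 0) = true := by decide +kernel

end Cfsg.Agent.Fi.X24
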