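import Cfsg.Agent.Lib.Fischer.X24.T

set_option autoImplicit false
set_option maxRecDepth 100000

namespace Cfsg.Agent.Fi.X24

open Cfsg.Agent.PC

theorem r140000 : Nat.beq (rng f (nat_lit 140000) (nat_lit 2000)) (nat_lit 0) = true := by decide +kernel
theorem r142000 : Nat.beq (rng f (nat_lit 142000) (nat_lit 2000)) (nat_lit 0) = true := by decide +kernel
theorem r144000 : Nat.beq (rng f (nat_lit 144000) (nat_lit 2000)) (nat_lit 0) = true := by decide +kernel
theorem r146000 : Nat.beq (rng f (nat_lit 146000) (nat_lit 2000)) (nat_lit 0) = true := by decide +kernel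
theorem r148000 : Nat.beq (rng f (nat_lit 148000) (nat_lit 2000)) (nat_lit 0) = true := by decide +kernel
theorem r150000 : Nat.beq (rng f (nat_lit 150000) (nat_lit 2000)) (nat_lit 0) = true := by decide +kernel
theorem r152000 : Nat.beq (rng f (nat_lit 152000) (nat_lit 2000)) (nat_lit 0) = true := by decide +kernel
theorem r154000 : Nat.beq (rng f (nat_lit 154000) (nat_lit 2000)) (nat_lit 0) = true := by decide +kernel
theorem r156000 : Nat.beq (rng f (nat_lit 156000) (nat_lit 2000)) (nat_lit 0) = true := by decide +kernel
theorem r158000 : Nat.beq (rng f (nat_lit 158000) (nat_lit 2000)) (nat_lit 0) = true := by decide +kernel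
theorem r160000 : Nat.beq (rng f (nat_lit 160000) (nat_lit 2000)) (nat_lit 0) = true := by decide +kernel
theorem r162000 : Nat.beq (rng f (nat_lit 162000) (nat_lit 2000)) (nat_lit 0) = true := by decide +kernel
theorem r164000 : Nat.beq (rng f (nat_lit 164000) (nat_lit 2000)) (nat_lit 0) = true := by decide +kernel
theorem r166000 : Nat.beq (rng f (nat_lit 166000) (nat_lit 2000)) (nat_lit 0) = true := by decide +kernel

end Cfsg.Agent.Fi.X24
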