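import Cfsg.Agent.Lib.Fischer.X24.T

set_option autoImplicit false
set_option maxRecDepth 100000

namespace Cfsg.Agent.Fi.X24

open Cfsg.Agent.PC

theorem r168000 : Nat.beq (rng f (nat_lit 168000) (nat_lit 2000)) (nat_lit 0) = true := by decide +kernel
theorem r170000 : Nat.beq (rng f (nat_lit 170000) (nat_lit 2000)) (nat_lit 0) = true := by decide +kernel
theorem r172000 : Nat.beq (rng f (nat_lit 172000) (nat_lit 2000)) (nat_lit 0) = true := by decide +kernel
theorem r174000 : Nat.beq (rng f (nat_lit 174000) (nat_lit 2000)) (nat_lit 0) = true := by decide +kernel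
theorem r176000 : Nat.beq (rng f (nat_lit 176000) (nat_lit 2000)) (nat_lit 0) = true := by decide +kernel
theorem r178000 : Nat.beq (rng f (nat_lit 178000) (nat_lit 2000)) (nat_lit 0) = true := by decide +kernel
theorem r180000 : Nat.beq (rng f (nat_lit 180000) (nat_lit 2000)) (nat_lit 0) = true := by decide +kernel
theorem r182000 : Nat.beq (rng f (nat_lit 182000) (nat_lit 2000)) (nat_lit 0) = true := by decide +kernel
theorem r184000 : Nat.beq (rng f (nat_lit 184000) (nat_lit 2000)) (nat_lit 0) = true := by decide +kernel
theorem r186000 : Nat.beq (rng f (nat_lit 186000) (nat_lit 2000)) (nat_lit 0) = true := by decide +kernel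
theorem r188000 : Nat.beq (rng f (nat_lit 188000) (nat_lit 2000)) (nat_lit 0) = true := by decide +kernel
theorem r190000 : Nat.beq (rng f (nat_lit 190000) (nat_lit 2000)) (nat_lit 0) = true := by decide +kernel
theorem r192000 : Nat.beq (rng f (nat_lit 192000) (nat_lit 2000)) (nat_lit 0) = true := by decide +kernel
theorem r194000 : Nat.beq (rng f (nat_lit 194000) (nat_lit 2000)) (nat_lit 0) = true := by decide +kernel

end Cfsg.Agent.Fi.X24
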