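import Cfsg.Agent.Lib.Fischer.X24.T

set_option autoImplicit false
set_option maxRecDepth 100000

namespace Cfsg.Agent.Fi.X24

open Cfsg.Agent.PC

theorem r196000 : Nat.beq (rng f (nat_lit 196000) (nat_lit 2000)) (nat_lit 0) = true := by decide +kernel
theorem r198000 : Nat.beq (rng f (nat_lit 198000) (nat_lit 2000)) (nat_lit 0) = true := by decide +kernel
theorem r200000 : Nat.beq (rng f (nat_lit 200000) (nat_lit 2000)) (nat_lit 0) = true := by decide +kernel
theorem r202000 : Nat.beq (rng f (nat_lit 202000) (nat_lit 2000)) (nat_lit 0) = true := by decide +kernel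
theorem r204000 : Nat.beq (rng f (nat_lit 204000) (nat_lit 2000)) (nat_lit 0) = true := by decide +kernel
theorem r206000 : Nat.beq (rng f (nat_lit 206000) (nat_lit 2000)) (nat_lit 0) = true := by decide +kernel
theorem r208000 : Nat.beq (rng f (nat_lit 208000) (nat_lit 2000)) (nat_lit 0) = true := by decide +kernel
theorem r210000 : Nat.beq (rng f (nat_lit 210000) (nat_lit 2000)) (nat_lit 0) = true := by decide +kernel
theorem r212000 : Nat.beq (rng f (nat_lit 212000) (nat_lit 2000)) (nat_lit 0) = true := by decide +kernel
theorem r214000 : Nat.beq (rng f (nat_lit 214000) (nat_lit 2000)) (nat_lit 0) = true := by decide +kernel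
theorem r216000 : Nat.beq (rng f (nat_lit 216000) (nat_lit 2000)) (nat_lit 0) = true := by decide +kernel
theorem r218000 : Nat.beq (rng f (nat_lit 218000) (nat_lit 2000)) (nat_lit 0) = true := by decide +kernel
theorem r220000 : Nat.beq (rng f (nat_lit 220000) (nat_lit 2000)) (nat_lit 0) = true := by decide +kernel
theorem r222000 : Nat.beq (rng f (nat_lit 222000) (nat_lit 2000)) (nat_lit 0) = true := by decide +kernel

end Cfsg.Agent.Fi.X24
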