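import Cfsg.Agent.Lib.Fischer.X24.T

set_option autoImplicit false
set_option maxRecDepth 100000

namespace Cfsg.Agent.Fi.X24

open Cfsg.Agent.PC

theorem r224000 : Nat.beq (rng f (nat_lit 224000) (nat_lit 2000)) (nat_lit 0) = true := by decide +kernel
theorem r226000 : Nat.beq (rng f (nat_lit 226000) (nat_lit 2000)) (nat_lit 0) = true := by decide +kernel
theorem r228000 : Nat.beq (rng f (nat_lit 228000) (nat_lit 2000)) (nat_lit 0) = true := by decide +kernel
theorem r230000 : Nat.beq (rng f (nat_lit 230000) (nat_lit 2000)) (nat_lit 0) = true := by decide +kernel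
theorem r232000 : Nat.beq (rng f (nat_lit 232000) (nat_lit 2000)) (nat_lit 0) = true := by decide +kernel
theorem r234000 : Nat.beq (rng f (nat_lit 234000) (nat_lit 2000)) (nat_lit 0) = true := by decide +kernel
theorem r236000 : Nat.beq (rng f (nat_lit 236000) (nat_lit 2000)) (nat_lit 0) = true := by decide +kernel
theorem r238000 : Nat.beq (rng f (nat_lit 238000) (nat_lit 2000)) (nat_lit 0) = true := by decide +kernel
theorem r240000 : Nat.beq (rng f (nat_lit 240000) (nat_lit 2000)) (nat_lit 0) = true := by decide +kernel
theorem r242000 : Nat.beq (rng f (nat_lit 242000) (nat_lit 2000)) (nat_lit 0) = true := by decide +kernel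
theorem r244000 : Nat.beq (rng f (nat_lit 244000) (nat_lit 2000)) (nat_lit 0) = true := by decide +kernel
theorem r246000 : Nat.beq (rng f (nat_lit 246000) (nat_lit 2000)) (nat_lit 0) = true := by decide +kernel
theorem r248000 : Nat.beq (rng f (nat_lit 248000) (nat_lit 2000)) (nat_lit 0) = true := by decide +kernel
theorem r250000 : Nat.beq (rng f (nat_lit 250000) (nat_lit 2000)) (nat_lit 0) = true := by decide +kernel

end Cfsg.Agent.Fi.X24
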