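import Cfsg.Agent.Lib.Fischer.X24.T

set_option autoImplicit false
set_option maxRecDepth 100000

namespace Cfsg.Agent.Fi.X24

open Cfsg.Agent.PC

theorem r252000 : Nat.beq (rng f (nat_lit 252000) (nat_lit 2000)) (nat_lit 0) = true := by decide +kernel
theorem r254000 : Nat.beq (rng f (nat_lit 254000) (nat_lit 2000)) (nat_lit 0) = true := by decide +kernel
theorem r256000 : Nat.beq (rng f (nat_lit 256000) (nat_lit 2000)) (nat_lit 0) = true := by decide +kernel
theorem r258000 : Nat.beq (rng f (nat_lit 258000) (nat_lit 2000)) (nat_lit 0) = true := by decide +kernel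
theorem r260000 : Nat.beq (rng f (nat_lit 260000) (nat_lit 2000)) (nat_lit 0) = true := by decide +kernel
theorem r262000 : Nat.beq (rng f (nat_lit 262000) (nat_lit 2000)) (nat_lit 0) = true := by decide +kernel
theorem r264000 : Nat.beq (rng f (nat_lit 264000) (nat_lit 2000)) (nat_lit 0) = true := by decide +kernel
theorem r266000 : Nat.beq (rng f (nat_lit 266000) (nat_lit 2000)) (nat_lit 0) = true := by decide +kernel
theorem r268000 : Nat.beq (rng f (nat_lit 268000) (nat_lit 2000)) (nat_lit 0) = true := by decide +kernel
theorem r270000 : Nat.beq (rng f (nat_lit 270000) (nat_lit 2000)) (nat_lit 0) = true := by decide +kernel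
theorem r272000 : Nat.beq (rng f (nat_lit 272000) (nat_lit 2000)) (nat_lit 0) = true := by decide +kernel
theorem r274000 : Nat.beq (rng f (nat_lit 274000) (nat_lit 2000)) (nat_lit 0) = true := by decide +kernel
theorem r276000 : Nat.beq (rng f (nat_lit 276000) (nat_lit 2000)) (nat_lit 0) = true := by decide +kernel
theorem r278000 : Nat.beq (rng f (nat_lit 278000) (nat_lit 2000)) (nat_lit 0) = true := by decide +kernel

end Cfsg.Agent.Fi.X24
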