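import Cfsg.Agent.Lib.Fischer.X24.R0
import Cfsg.Agent.Lib.Fischer.X24.R1
import Cfsg.Agent.Lib.Fischer.X24.R2
import Cfsg.Agent.Lib.Fischer.X24.R3
import Cfsg.Agent.Lib.Fischer.X24.R4
import Cfsg.Agent.Lib.Fischer.X24.R5
import Cfsg.Agent.Lib.Fischer.X24.R6
import Cfsg.Agent.Lib.Fischer.X24.R7
import Cfsg.Agent.Lib.Fischer.X24.R8
import Cfsg.Agent.Lib.Fischer.X24.R9
import Cfsg.Agent.Lib.Fischer.X24.R10

set_option autoImplicit false
set_option maxRecDepth 100000

namespace Cfsg.Agent.Fi.X24

open Cfsg.Agent.PC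

theorem h0 : ∀ i < 306936, f i = 0 := by
  have h := zero_lt_zero f
  have h := zero_lt_add (a := (nat_lit 0)) (n := (nat_lit 2000)) (b := (nat_lit 2000)) h r0 rfl
  have h := zero_lt_add (a := (nat_lit 2000)) (n := (nat_lit 2000)) (b := (nat_lit 4000)) h r2000 rfl
  have h := zero_lt_add (a := (nat_lit 4000)) (n := (nat_lit 2000)) (b := (nat_lit 6000)) h r4000 rfl
  have h := zero_lt_add (a := (nat_lit 6000)) (n := (nat_lit 2000)) (b := (nat_lit 8000)) h r6000 rfl
  have h := zero_lt_add (a := (nat_lit 8000)) (n := (nat_lit 2000)) (b := (nat_lit 10000)) h r8000 rfl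
  have h := zero_lt_add (a := (nat_lit 10000)) (n := (nat_lit 2000)) (b := (nat_lit 12000)) h r10000 rfl
  have h := zero_lt_add (a := (nat_lit 12000)) (n := (nat_lit 2000)) (b := (nat_lit 14000)) h r12000 rfl
  have h := zero_lt_add (a := (nat_lit 14000)) (n := (nat_lit 2000)) (b := (nat_lit 16000)) h r14000 rfl
  have h := zero_lt_add (a := (nat_lit 16000)) (n := (nat_lit 2000)) (b := (nat_lit 18000)) h r16000 rfl
  have h := zero_lt_add (a := (nat_lit 18000)) (n := (nat_lit 2000)) (b := (nat_lit 20000)) h r18000 rfl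
  have h := zero_lt_add (a := (nat_lit 20000)) (n := (nat_lit 2000)) (b := (nat_lit 22000)) h r20000 rfl
  have h := zero_lt_add (a := (nat_lit 22000)) (n := (nat_lit 2000)) (b := (nat_lit 24000)) h r22000 rfl
  have h := zero_lt_add (a := (nat_lit 24000)) (n := (nat_lit 2000)) (b := (nat_lit 26000)) h r24000 rfl
  have h := zero_lt_add (a := (nat_lit 26000)) (n := (nat_lit 2000)) (b := (nat_lit 28000)) h r26000 rfl
  have h := zero_lt_add (a := (nat_lit 28000)) (n := (nat_lit 2000)) (b := (nat_lit 30000)) h r28000 rfl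
  have h := zero_lt_add (a := (nat_lit 30000)) (n := (nat_lit 2000)) (b := (nat_lit 32000)) h r30000 rfl
  have h := zero_lt_add (a := (nat_lit 32000)) (n := (nat_lit 2000)) (b := (nat_lit 34000)) h r32000 rfl
  have h := zero_lt_add (a := (nat_lit 34000)) (n := (nat_lit 2000)) (b := (nat_lit 36000)) h r34000 rfl
  have h := zero_lt_add (a := (nat_lit 36000)) (n := (nat_lit 2000)) (b := (nat_lit 38000)) h r36000 rfl
  have h := zero_lt_add (a := (nat_lit 38000)) (n := (nat_lit 2000)) (b := (nat_lit 40000)) h r38000 rfl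
  have h := zero_lt_add (a := (nat_lit 40000)) (n := (nat_lit 2000)) (b := (nat_lit 42000)) h r40000 rfl
  have h := zero_lt_add (a := (nat_lit 42000)) (n := (nat_lit 2000)) (b := (nat_lit 44000)) h r42000 rfl
  have h := zero_lt_add (a := (nat_lit 44000)) (n := (nat_lit 2000)) (b := (nat_lit 46000)) h r44000 rfl
  have h := zero_lt_add (a := (nat_lit 46000)) (n := (nat_lit 2000)) (b := (nat_lit 48000)) h r46000 rfl
  have h := zero_lt_add (a := (nat_lit 48000)) (n := (nat_lit 2000)) (b := (nat_lit 50000)) h r48000 rfl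
  have h := zero_lt_add (a := (nat_lit 50000)) (n := (nat_lit 2000)) (b := (nat_lit 52000)) h r50000 rfl
  have h := zero_lt_add (a := (nat_lit 52000)) (n := (nat_lit 2000)) (b := (nat_lit 54000)) h r52000 rfl
  have h := zero_lt_add (a := (nat_lit 54000)) (n := (nat_lit 2000)) (b := (nat_lit 56000)) h r54000 rfl
  have h := zero_lt_add (a := (nat_lit 56000)) (n := (nat_lit 2000)) (b := (nat_lit 58000)) h r56000 rfl
  have h := zero_lt_add (a := (nat_lit 58000)) (n := (nat_lit 2000)) (b := (nat_lit 60000)) h r58000 rfl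
  have h := zero_lt_add (a := (nat_lit 60000)) (n := (nat_lit 2000)) (b := (nat_lit 62000)) h r60000 rfl
  have h := zero_lt_add (a := (nat_lit 62000)) (n := (nat_lit 2000)) (b := (nat_lit 64000)) h r62000 rfl
  have h := zero_lt_add (a := (nat_lit 64000)) (n := (nat_lit 2000)) (b := (nat_lit 66000)) h r64000 rfl
  have h := zero_lt_add (a := (nat_lit 66000)) (n := (nat_lit 2000)) (b := (nat_lit 68000)) h r66000 rfl
  have h := zero_lt_add (a := (nat_lit 68000)) (n := (nat_lit 2000)) (b := (nat_lit 70000)) h r68000 rfl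
  have h := zero_lt_add (a := (nat_lit 70000)) (n := (nat_lit 2000)) (b := (nat_lit 72000)) h r70000 rfl
  have h := zero_lt_add (a := (nat_lit 72000)) (n := (nat_lit 2000)) (b := (nat_lit 74000)) h r72000 rfl
  have h := zero_lt_add (a := (nat_lit 74000)) (n := (nat_lit 2000)) (b := (nat_lit 76000)) h r74000 rfl
  have h := zero_lt_add (a := (nat_lit 76000)) (n := (nat_lit 2000)) (b := (nat_lit 78000)) h r76000 rfl
  have h := zero_lt_add (a := (nat_lit 78000)) (n := (nat_lit 2000)) (b := (nat_lit 80000)) h r78000 rfl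
  have h := zero_lt_add (a := (nat_lit 80000)) (n := (nat_lit 2000)) (b := (nat_lit 82000)) h r80000 rfl
  have h := zero_lt_add (a := (nat_lit 82000)) (n := (nat_lit 2000)) (b := (nat_lit 84000)) h r82000 rfl
  have h := zero_lt_add (a := (nat_lit 84000)) (n := (nat_lit 2000)) (b := (nat_lit 86000)) h r84000 rfl
  have h := zero_lt_add (a := (nat_lit 86000)) (n := (nat_lit 2000)) (b := (nat_lit 88000)) h r86000 rfl
  have h := zero_lt_add (a := (nat_lit 88000)) (n := (nat_lit 2000)) (b := (nat_lit 90000)) h r88000 rfl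
  have h := zero_lt_add (a := (nat_lit 90000)) (n := (nat_lit 2000)) (b := (nat_lit 92000)) h r90000 rfl
  have h := zero_lt_add (a := (nat_lit 92000)) (n := (nat_lit 2000)) (b := (nat_lit 94000)) h r92000 rfl
  have h := zero_lt_add (a := (nat_lit 94000)) (n := (nat_lit 2000)) (b := (nat_lit 96000)) h r94000 rfl
  have h := zero_lt_add (a := (nat_lit 96000)) (n := (nat_lit 2000)) (b := (nat_lit 98000)) h r96000 rfl
  have h := zero_lt_add (a := (nat_lit 98000)) (n := (nat_lit 2000)) (b := (nat_lit 100000)) h r98000 rfl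
  have h := zero_lt_add (a := (nat_lit 100000)) (n := (nat_lit 2000)) (b := (nat_lit 102000)) h r100000 rfl
  have h := zero_lt_add (a := (nat_lit 102000)) (n := (nat_lit 2000)) (b := (nat_lit 104000)) h r102000 rfl
  have h := zero_lt_add (a := (nat_lit 104000)) (n := (nat_lit 2000)) (b := (nat_lit 106000)) h r104000 rfl
  have h := zero_lt_add (a := (nat_lit 106000)) (n := (nat_lit 2000)) (b := (nat_lit 108000)) h r106000 rfl
  have h := zero_lt_add (a := (nat_lit 108000)) (n := (nat_lit 2000)) (b := (nat_lit 110000)) h r108000 rfl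
  have h := zero_lt_add (a := (nat_lit 110000)) (n := (nat_lit 2000)) (b := (nat_lit 112000)) h r110000 rfl
  have h := zero_lt_add (a := (nat_lit 112000)) (n := (nat_lit 2000)) (b := (nat_lit 114000)) h r112000 rfl
  have h := zero_lt_add (a := (nat_lit 114000)) (n := (nat_lit 2000)) (b := (nat_lit 116000)) h r114000 rfl
  have h := zero_lt_add (a := (nat_lit 116000)) (n := (nat_lit 2000)) (b := (nat_lit 118000)) h r116000 rfl
  have h := zero_lt_add (a := (nat_lit 118000)) (n := (nat_lit 2000)) (b := (nat_lit 120000)) h r118000 rfl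
  have h := zero_lt_add (a := (nat_lit 120000)) (n := (nat_lit 2000)) (b := (nat_lit 122000)) h r120000 rfl
  have h := zero_lt_add (a := (nat_lit 122000)) (n := (nat_lit 2000)) (b := (nat_lit 124000)) h r122000 rfl
  have h := zero_lt_add (a := (nat_lit 124000)) (n := (nat_lit 2000)) (b := (nat_lit 126000)) h r124000 rfl
  have h := zero_lt_add (a := (nat_lit 126000)) (n := (nat_lit 2000)) (b := (nat_lit 128000)) h r126000 rfl
  have h := zero_lt_add (a := (nat_lit 128000)) (n := (nat_lit 2000)) (b := (nat_lit 130000)) h r128000 rfl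
  have h := zero_lt_add (a := (nat_lit 130000)) (n := (nat_lit 2000)) (b := (nat_lit 132000)) h r130000 rfl
  have h := zero_lt_add (a := (nat_lit 132000)) (n := (nat_lit 2000)) (b := (nat_lit 134000)) h r132000 rfl
  have h := zero_lt_add (a := (nat_lit 134000)) (n := (nat_lit 2000)) (b := (nat_lit 136000)) h r134000 rfl
  have h := zero_lt_add (a := (nat_lit 136000)) (n := (nat_lit 2000)) (b := (nat_lit 138000)) h r136000 rfl
  have h := zero_lt_add (a := (nat_lit 138000)) (n := (nat_lit 2000)) (b := (nat_lit 140000)) h r138000 rfl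
  have h := zero_lt_add (a := (nat_lit 140000)) (n := (nat_lit 2000)) (b := (nat_lit 142000)) h r140000 rfl
  have h := zero_lt_add (a := (nat_lit 142000)) (n := (nat_lit 2000)) (b := (nat_lit 144000)) h r142000 rfl
  have h := zero_lt_add (a := (nat_lit 144000)) (n := (nat_lit 2000)) (b := (nat_lit 146000)) h r144000 rfl
  have h := zero_lt_add (a := (nat_lit 146000)) (n := (nat_lit 2000)) (b := (nat_lit 148000)) h r146000 rfl
  have h := zero_lt_add (a := (nat_lit 148000)) (n := (nat_lit 2000)) (b := (nat_lit 150000)) h r148000 rfl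
  have h := zero_lt_add (a := (nat_lit 150000)) (n := (nat_lit 2000)) (b := (nat_lit 152000)) h r150000 rfl
  have h := zero_lt_add (a := (nat_lit 152000)) (n := (nat_lit 2000)) (b := (nat_lit 154000)) h r152000 rfl
  have h := zero_lt_add (a := (nat_lit 154000)) (n := (nat_lit 2000)) (b := (nat_lit 156000)) h r154000 rfl
  have h := zero_lt_add (a := (nat_lit 156000)) (n := (nat_lit 2000)) (b := (nat_lit 158000)) h r156000 rfl
  have h := zero_lt_add (a := (nat_lit 158000)) (n := (nat_lit 2000)) (b := (nat_lit 160000)) h r158000 rfl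
  have h := zero_lt_add (a := (nat_lit 160000)) (n := (nat_lit 2000)) (b := (nat_lit 162000)) h r160000 rfl
  have h := zero_lt_add (a := (nat_lit 162000)) (n := (nat_lit 2000)) (b := (nat_lit 164000)) h r162000 rfl
  have h := zero_lt_add (a := (nat_lit 164000)) (n := (nat_lit 2000)) (b := (nat_lit 166000)) h r164000 rfl
  have h := zero_lt_add (a := (nat_lit 166000)) (n := (nat_lit 2000)) (b := (nat_lit 168000)) h r166000 rfl
  have h := zero_lt_add (a := (nat_lit 168000)) (n := (nat_lit 2000)) (b := (nat_lit 170000)) h r168000 rfl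
  have h := zero_lt_add (a := (nat_lit 170000)) (n := (nat_lit 2000)) (b := (nat_lit 172000)) h r170000 rfl
  have h := zero_lt_add (a := (nat_lit 172000)) (n := (nat_lit 2000)) (b := (nat_lit 174000)) h r172000 rfl
  have h := zero_lt_add (a := (nat_lit 174000)) (n := (nat_lit 2000)) (b := (nat_lit 176000)) h r174000 rfl
  have h := zero_lt_add (a := (nat_lit 176000)) (n := (nat_lit 2000)) (b := (nat_lit 178000)) h r176000 rfl
  have h := zero_lt_add (a := (nat_lit 178000)) (n := (nat_lit 2000)) (b := (nat_lit 180000)) h r178000 rfl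
  have h := zero_lt_add (a := (nat_lit 180000)) (n := (nat_lit 2000)) (b := (nat_lit 182000)) h r180000 rfl
  have h := zero_lt_add (a := (nat_lit 182000)) (n := (nat_lit 2000)) (b := (nat_lit 184000)) h r182000 rfl
  have h := zero_lt_add (a := (nat_lit 184000)) (n := (nat_lit 2000)) (b := (nat_lit 186000)) h r184000 rfl
  have h := zero_lt_add (a := (nat_lit 186000)) (n := (nat_lit 2000)) (b := (nat_lit 188000)) h r186000 rfl
  have h := zero_lt_add (a := (nat_lit 188000)) (n := (nat_lit 2000)) (b := (nat_lit 190000)) h r188000 rfl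
  have h := zero_lt_add (a := (nat_lit 190000)) (n := (nat_lit 2000)) (b := (nat_lit 192000)) h r190000 rfl
  have h := zero_lt_add (a := (nat_lit 192000)) (n := (nat_lit 2000)) (b := (nat_lit 194000)) h r192000 rfl
  have h := zero_lt_add (a := (nat_lit 194000)) (n := (nat_lit 2000)) (b := (nat_lit 196000)) h r194000 rfl
  have h := zero_lt_add (a := (nat_lit 196000)) (n := (nat_lit 2000)) (b := (nat_lit 198000)) h r196000 rfl
  have h := zero_lt_add (a := (nat_lit 198000)) (n := (nat_lit 2000)) (b := (nat_lit 200000)) h r198000 rfl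
  have h := zero_lt_add (a := (nat_lit 200000)) (n := (nat_lit 2000)) (b := (nat_lit 202000)) h r200000 rfl
  have h := zero_lt_add (a := (nat_lit 202000)) (n := (nat_lit 2000)) (b := (nat_lit 204000)) h r202000 rfl
  have h := zero_lt_add (a := (nat_lit 204000)) (n := (nat_lit 2000)) (b := (nat_lit 206000)) h r204000 rfl
  have h := zero_lt_add (a := (nat_lit 206000)) (n := (nat_lit 2000)) (b := (nat_lit 208000)) h r206000 rfl
  have h := zero_lt_add (a := (nat_lit 208000)) (n := (nat_lit 2000)) (b := (nat_lit 210000)) h r208000 rfl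
  have h := zero_lt_add (a := (nat_lit 210000)) (n := (nat_lit 2000)) (b := (nat_lit 212000)) h r210000 rfl
  have h := zero_lt_add (a := (nat_lit 212000)) (n := (nat_lit 2000)) (b := (nat_lit 214000)) h r212000 rfl
  have h := zero_lt_add (a := (nat_lit 214000)) (n := (nat_lit 2000)) (b := (nat_lit 216000)) h r214000 rfl
  have h := zero_lt_add (a := (nat_lit 216000)) (n := (nat_lit 2000)) (b := (nat_lit 218000)) h r216000 rfl
  have h := zero_lt_add (a := (nat_lit 218000)) (n := (nat_lit 2000)) (b := (nat_lit 220000)) h r218000 rfl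
  have h := zero_lt_add (a := (nat_lit 220000)) (n := (nat_lit 2000)) (b := (nat_lit 222000)) h r220000 rfl
  have h := zero_lt_add (a := (nat_lit 222000)) (n := (nat_lit 2000)) (b := (nat_lit 224000)) h r222000 rfl
  have h := zero_lt_add (a := (nat_lit 224000)) (n := (nat_lit 2000)) (b := (nat_lit 226000)) h r224000 rfl
  have h := zero_lt_add (a := (nat_lit 226000)) (n := (nat_lit 2000)) (b := (nat_lit 228000)) h r226000 rfl
  have h := zero_lt_add (a := (nat_lit 228000)) (n := (nat_lit 2000)) (b := (nat_lit 230000)) h r228000 rfl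
  have h := zero_lt_add (a := (nat_lit 230000)) (n := (nat_lit 2000)) (b := (nat_lit 232000)) h r230000 rfl
  have h := zero_lt_add (a := (nat_lit 232000)) (n := (nat_lit 2000)) (b := (nat_lit 234000)) h r232000 rfl
  have h := zero_lt_add (a := (nat_lit 234000)) (n := (nat_lit 2000)) (b := (nat_lit 236000)) h r234000 rfl
  have h := zero_lt_add (a := (nat_lit 236000)) (n := (nat_lit 2000)) (b := (nat_lit 238000)) h r236000 rfl
  have h := zero_lt_add (a := (nat_lit 238000)) (n := (nat_lit 2000)) (b := (nat_lit 240000)) h r238000 rfl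
  have h := zero_lt_add (a := (nat_lit 240000)) (n := (nat_lit 2000)) (b := (nat_lit 242000)) h r240000 rfl
  have h := zero_lt_add (a := (nat_lit 242000)) (n := (nat_lit 2000)) (b := (nat_lit 244000)) h r242000 rfl
  have h := zero_lt_add (a := (nat_lit 244000)) (n := (nat_lit 2000)) (b := (nat_lit 246000)) h r244000 rfl
  have h := zero_lt_add (a := (nat_lit 246000)) (n := (nat_lit 2000)) (b := (nat_lit 248000)) h r246000 rfl
  have h := zero_lt_add (a := (nat_lit 248000)) (n := (nat_lit 2000)) (b := (nat_lit 250000)) h r248000 rfl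
  have h := zero_lt_add (a := (nat_lit 250000)) (n := (nat_lit 2000)) (b := (nat_lit 252000)) h r250000 rfl
  have h := zero_lt_add (a := (nat_lit 252000)) (n := (nat_lit 2000)) (b := (nat_lit 254000)) h r252000 rfl
  have h := zero_lt_add (a := (nat_lit 254000)) (n := (nat_lit 2000)) (b := (nat_lit 256000)) h r254000 rfl
  have h := zero_lt_add (a := (nat_lit 256000)) (n := (nat_lit 2000)) (b := (nat_lit 258000)) h r256000 rfl
  have h := zero_lt_add (a := (nat_lit 258000)) (n := (nat_lit 2000)) (b := (nat_lit 260000)) h r258000 rfl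
  have h := zero_lt_add (a := (nat_lit 260000)) (n := (nat_lit 2000)) (b := (nat_lit 262000)) h r260000 rfl
  have h := zero_lt_add (a := (nat_lit 262000)) (n := (nat_lit 2000)) (b := (nat_lit 264000)) h r262000 rfl
  have h := zero_lt_add (a := (nat_lit 264000)) (n := (nat_lit 2000)) (b := (nat_lit 266000)) h r264000 rfl
  have h := zero_lt_add (a := (nat_lit 266000)) (n := (nat_lit 2000)) (b := (nat_lit 268000)) h r266000 rfl
  have h := zero_lt_add (a := (nat_lit 268000)) (n := (nat_lit 2000)) (b := (nat_lit 270000)) h r268000 rfl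
  have h := zero_lt_add (a := (nat_lit 270000)) (n := (nat_lit 2000)) (b := (nat_lit 272000)) h r270000 rfl
  have h := zero_lt_add (a := (nat_lit 272000)) (n := (nat_lit 2000)) (b := (nat_lit 274000)) h r272000 rfl
  have h := zero_lt_add (a := (nat_lit 274000)) (n := (nat_lit 2000)) (b := (nat_lit 276000)) h r274000 rfl
  have h := zero_lt_add (a := (nat_lit 276000)) (n := (nat_lit 2000)) (b := (nat_lit 278000)) h r276000 rfl
  have h := zero_lt_add (a := (nat_lit 278000)) (n := (nat_lit 2000)) (b := (nat_lit 280000)) h r278000 rfl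
  have h := zero_lt_add (a := (nat_lit 280000)) (n := (nat_lit 2000)) (b := (nat_lit 282000)) h r280000 rfl
  have h := zero_lt_add (a := (nat_lit 282000)) (n := (nat_lit 2000)) (b := (nat_lit 284000)) h r282000 rfl
  have h := zero_lt_add (a := (nat_lit 284000)) (n := (nat_lit 2000)) (b := (nat_lit 286000)) h r284000 rfl
  have h := zero_lt_add (a := (nat_lit 286000)) (n := (nat_lit 2000)) (b := (nat_lit 288000)) h r286000 rfl
  have h := zero_lt_add (a := (nat_lit 288000)) (n := (nat_lit 2000)) (b := (nat_lit 290000)) h r288000 rfl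
  have h := zero_lt_add (a := (nat_lit 290000)) (n := (nat_lit 2000)) (b := (nat_lit 292000)) h r290000 rfl
  have h := zero_lt_add (a := (nat_lit 292000)) (n := (nat_lit 2000)) (b := (nat_lit 294000)) h r292000 rfl
  have h := zero_lt_add (a := (nat_lit 294000)) (n := (nat_lit 2000)) (b := (nat_lit 296000)) h r294000 rfl
  have h := zero_lt_add (a := (nat_lit 296000)) (n := (nat_lit 2000)) (b := (nat_lit 298000)) h r296000 rfl
  have h := zero_lt_add (a := (nat_lit 298000)) (n := (nat_lit 2000)) (b := (nat_lit 300000)) h r298000 rfl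
  have h := zero_lt_add (a := (nat_lit 300000)) (n := (nat_lit 2000)) (b := (nat_lit 302000)) h r300000 rfl
  have h := zero_lt_add (a := (nat_lit 302000)) (n := (nat_lit 2000)) (b := (nat_lit 304000)) h r302000 rfl
  have h := zero_lt_add (a := (nat_lit 304000)) (n := (nat_lit 2000)) (b := (nat_lit 306000)) h r304000 rfl
  have h := zero_lt_add (a := (nat_lit 306000)) (n := (nat_lit 936)) (b := (nat_lit 306936)) h r306000 rfl
  exact h
theorem dsc : Dsc T P V 306936 16 8 := dsc_of fun c hc => (add_eq_zero' (h0 c hc)).2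
theorem T_eq : ∀ j < 12, C24.T j = T j := by
  intro j hj
  refine getL_congr (t := C24.tt) (t' := tt) (w := (nat_lit 38)) (mask := (nat_lit 524287)) (j := j) (by omega) ?_
  interval_cases j <;> rfl
theorem fd {G : Type*} [Group G] {D : Set G} {P0 : ℕ → ℕ} {pt : ℕ → G} (F : FD D C24.T P0 306936 12 pt)
    (h : ∀ j < 12, P0 j = P j) : FD D T P 306936 16 pt :=
  F.ext T_eq h (A := A) (L := L) (by decide +kernel) fun c hc => (add_eq_zero' (h0 c hc)).1

end Cfsg.Agent.Fi.X24
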